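import Groth.Agent.FppfCmp.Apply
import Groth.Agent.SpSeqLib.ExtDerived
import Groth.Agent.S0748
import Groth.Agent.SiteBase.PullbackAb
import Mathlib.Algebra.Category.Grp.ForgetCorepresentable
import Groth.Agent.S0101
import Groth.Agent.S0642

/-!
# Étale cohomology of an inverse image from a resolution on the big fppf site
-/

set_option autoImplicit false
set_option backward.isDefEq.respectTransparency false
set_option backward.isDefEq.respectTransparency.types false
set_option maxHeartbeats 800000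

universe u

open CategoryTheory CategoryTheory.Limits AlgebraicGeometry Opposite Abelian Groth.Agent.BigSiteLib

noncomputable section

namespace Groth.Agent.EtFppfDescLib

variable {Y : Scheme.{u}}

/-- The complex of sections over an object of a complex of big fppf sheaves. -/
abbrev secCx (K : CochainComplex (EtFppf.AbF Y) ℕ) (Z : Over Y) : CochainComplex AddCommGrpCat.{u + 1} ℕ :=
  ((FppfCmp.sectF (EtFppf.J Y) Z).mapHomologicalComplex _).obj K

variable (Z : Over Y)

/-- The constant sheaf of integers on the big site of an object, pushed to the base. -/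
abbrev freeObj : EtFppf.AbF Y :=
  (BigSite.shriekAb Scheme.fppfPrecoverage Z.hom).obj
    ((constantSheaf (EtFppf.J Z.left) AddCommGrpCat.{u + 1}).obj (AddCommGrpCat.of (ULift.{u + 1} ℤ)))

/-- The top of the big site of an object, over the base. -/
def topIso : (Over.map Z.hom).obj (Over.mk (𝟙 Z.left)) ≅ Z :=
  Over.isoMk (Iso.refl _) ((Category.id_comp _).trans (Category.id_comp _).symm)

/-- Maps out of the constant sheaf of integers are global sections. -/
def constSecEquiv (T : Scheme.{u}) (G : EtFppf.AbF T) :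
    ((constantSheaf (EtFppf.J T) AddCommGrpCat.{u + 1}).obj (AddCommGrpCat.of (ULift.{u + 1} ℤ)) ⟶ G) ≃
      G.obj.obj (op (Over.mk (𝟙 T))) :=
  ((constantSheafAdj (EtFppf.J T) AddCommGrpCat.{u + 1} Over.mkIdTerminal).homEquiv
      (AddCommGrpCat.of (ULift.{u + 1} ℤ)) G).trans
    ((ConcreteCategory.homEquiv (X := AddCommGrpCat.of (ULift.{u + 1} ℤ))
      (Y := G.obj.obj (op (Over.mk (𝟙 T))))).trans (uliftZMultiplesHom (G.obj.obj (op (Over.mk (𝟙 T))))).symm)

theorem constSecEquiv_natural {T : Scheme.{u}} {G G' : EtFppf.AbF T}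
    (a : (constantSheaf (EtFppf.J T) AddCommGrpCat.{u + 1}).obj (AddCommGrpCat.of (ULift.{u + 1} ℤ)) ⟶ G)
    (b : G ⟶ G') : constSecEquiv T G' (a ≫ b) = b.hom.app (op (Over.mk (𝟙 T))) (constSecEquiv T G a) := by
  simp only [constSecEquiv, Equiv.trans_apply]
  rw [Adjunction.homEquiv_naturality_right]
  rfl

/-- Maps out of `freeObj` are sections. -/
def freeEquiv (G : EtFppf.AbF Y) : (freeObj Z ⟶ G) ≃ G.obj.obj (op Z) :=
  ((BigSite.shriekAbAdj Scheme.fppfPrecoverage Z.hom).homEquiv _ G).trans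
    ((constSecEquiv Z.left ((BigSite.pullBig Scheme.fppfPrecoverage Z.hom AddCommGrpCat.{u + 1}).obj G)).trans
      (G.obj.mapIso (topIso Z).op.symm).addCommGroupIsoToAddEquiv.toEquiv)

theorem freeEquiv_natural {G G' : EtFppf.AbF Y} (a : freeObj Z ⟶ G) (b : G ⟶ G') :
    freeEquiv Z G' (a ≫ b) = b.hom.app (op Z) (freeEquiv Z G a) := by
  simp only [freeEquiv, Equiv.trans_apply]
  rw [Adjunction.homEquiv_naturality_right, constSecEquiv_natural]
  exact (NatTrans.naturality_apply b.hom (topIso Z).op.symm.hom _).symm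

theorem freeEquiv_add (G : EtFppf.AbF Y) (a b : freeObj Z ⟶ G) :
    freeEquiv Z G (a + b) = freeEquiv Z G a + freeEquiv Z G b :=
  Groth.Agent.SiteBase.map_add_of_natural (preadditiveCoyoneda.obj (op (freeObj Z))) (FppfCmp.sectF (EtFppf.J Y) Z)
    (fun G s => freeEquiv Z G s) (fun g s => freeEquiv_natural Z s g) G a b

/-- Sections over an object of a complex are maps out of `freeObj`. -/
def secCxIso {A : EtFppf.AbF Y} (I : InjectiveResolution A) :
    SpSeqLib.homCx (freeObj Z) I ≅ secCx I.cocomplex Z :=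
  HomologicalComplex.Hom.isoOfComponents
    (fun k => (AddEquiv.mk' (freeEquiv Z (I.cocomplex.X k)) (freeEquiv_add Z _)).toAddCommGrpIso) fun i j _ => by
    ext a
    exact (freeEquiv_natural Z a _).symm

/-- The inverse image on the big fppf site of a sheaf from the small etale site. -/
def pullPiFppfIso {T : Scheme.{u}} (g : T ⟶ Y) (F : EtCoh.Ab Y) :
    (BigSite.pullBig Scheme.fppfPrecoverage g AddCommGrpCat.{u + 1}).obj (piFppf F) ≅
      piFppf ((EtCoh.pull g).obj F) :=
  let e := (sheafToPresheaf (QuotSh.J Scheme.etalePrecoverage T) AddCommGrpCat.{u + 1}).mapIso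
    ((FppfCmp.pullPiIso g).app F)
  (fullyFaithfulSheafToPresheaf (QuotSh.J Scheme.fppfPrecoverage T) AddCommGrpCat.{u + 1}).preimageIso
    (X := (BigSite.pullBig Scheme.fppfPrecoverage g AddCommGrpCat.{u + 1}).obj (piFppf F))
    (Y := piFppf ((EtCoh.pull g).obj F)) e

instance preservesFiniteColimits_pullBig {T : Scheme.{u}} (g : T ⟶ Y) :
    PreservesFiniteColimits (BigSite.pullBig Scheme.fppfPrecoverage g AddCommGrpCat.{u + 1}) :=
  haveI : PreservesColimitsOfSize.{0, 0} (BigSite.pullBig Scheme.fppfPrecoverage g AddCommGrpCat.{u + 1}) :=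
    (BigSite.bigAdj Scheme.fppfPrecoverage g AddCommGrpCat.{u + 1}).leftAdjoint_preservesColimits
  PreservesColimitsOfSize.preservesFiniteColimits _

theorem nonempty_ext_pull_equiv (A : EtFppf.AbF Y) (n : ℕ) :
    Nonempty (EtFppf.HF Z.left ((BigSite.pullBig Scheme.fppfPrecoverage Z.hom AddCommGrpCat.{u + 1}).obj A) n ≃+
      Abelian.Ext.{u + 1} (freeObj Z) A n) := by
  haveI := preservesFiniteLimits_shriekAb Z.hom Scheme.fppfPrecoverage
  exact BigSiteLib.nonempty_ext_equiv
    (BigSite.shriekAbAdj Scheme.fppfPrecoverage Z.hom)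
    (Z := (constantSheaf (EtFppf.J Z.left) AddCommGrpCat.{u + 1}).obj (AddCommGrpCat.of (ULift.{u + 1} ℤ)))
    (Z' := freeObj Z) (Iso.refl _) A n

theorem nonempty_HF_congr {T : Scheme.{u}} {A B : EtFppf.AbF T} (e : A ≅ B) (n : ℕ) :
    Nonempty (EtFppf.HF T A n ≃+ EtFppf.HF T B n) :=
  ⟨((Abelian.extFunctorObj _ n).mapIso e).addCommGroupIsoToAddEquiv⟩

theorem nonempty_HF_pull_equiv (F : EtCoh.Ab Y) (n : ℕ) :
    Nonempty (EtFppf.HF Z.left
      ((BigSite.pullBig Scheme.fppfPrecoverage Z.hom AddCommGrpCat.{u + 1}).obj (piFppf F)) n ≃+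
      EtCoh.H Z.left ((EtCoh.pull Z.hom).obj F) n) := by
  obtain ⟨e₃⟩ := S0748.result Z.left ((EtCoh.pull Z.hom).obj F) n
  obtain ⟨e₄⟩ := nonempty_HF_congr (pullPiFppfIso Z.hom F ≪≫ (aPullIso _).symm) n
  exact ⟨e₄.trans e₃.symm⟩

/-- The cohomology of the sections of a resolution is étale cohomology. -/
theorem nonempty_homology_secCx_iso (F : EtCoh.Ab Y) (I : InjectiveResolution (piFppf F)) (n : ℕ) :
    Nonempty ((secCx I.cocomplex Z).homology n ≅
      AddCommGrpCat.of (EtCoh.H Z.left ((EtCoh.pull Z.hom).obj F) n)) := by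
  obtain ⟨e₁⟩ := SpSeqLib.nonempty_homology_homCx_iso (freeObj Z) I n
  obtain ⟨e₂⟩ := nonempty_ext_pull_equiv Z (piFppf F) n
  obtain ⟨e₃⟩ := nonempty_HF_pull_equiv Z F n
  exact ⟨(HomologicalComplex.homologyFunctor _ _ n).mapIso (secCxIso Z I).symm ≪≫ e₁ ≪≫
    (e₂.symm.trans e₃).toAddCommGrpIso⟩

/-- The same over the base. -/
theorem nonempty_homology_secCx_base_iso (F : EtCoh.Ab Y) (I : InjectiveResolution (piFppf F)) (n : ℕ) :
    Nonempty ((secCx I.cocomplex (Over.mk (𝟙 Y))).homology n ≅ AddCommGrpCat.of (EtCoh.H Y F n)) := by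
  haveI : PreservesFiniteLimits (EtCoh.pull (𝟙 Y)) := S0101.result _
  obtain ⟨e⟩ := nonempty_homology_secCx_iso (Over.mk (𝟙 Y)) F I n
  exact ⟨e ≪≫ (AddEquiv.ofBijective _ (S0642.result (𝟙 Y) F n)).symm.toAddCommGrpIso⟩

end Groth.Agent.EtFppfDescLib
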