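import Groth.Agent.EtSecDescLib.Cech
import Groth.Agent.BigSiteLib.Shriek
import Mathlib.CategoryTheory.Preadditive.Injective.Basic
import Mathlib.AlgebraicGeometry.Morphisms.Flat
import Mathlib.AlgebraicGeometry.Morphisms.FinitePresentation
import Mathlib.AlgebraicGeometry.Limits

/-!
# Injective sheaves on the big fppf site are acyclic for the Čech complex of a covering

An injective sheaf is a direct factor of the direct image of its restriction to the covering scheme,
and the Čech complex of such a direct image has an extra degeneracy.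
-/

set_option autoImplicit false
set_option backward.isDefEq.respectTransparency false
set_option backward.isDefEq.respectTransparency.types false

universe w u

open CategoryTheory CategoryTheory.Limits AlgebraicGeometry Opposite Simplicial
open Groth.Agent.EtSecDescLib

noncomputable section

namespace Groth.Agent.EtFppfDescLib

variable {X Y : Scheme.{u}} (f : X ⟶ Y)

/-- The augmentation of a fibre power over the base. -/
abbrev topY : Over Y := Over.mk (𝟙 Y)

/-- Change of an object over the base to the covering scheme. -/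
abbrev E : Over Y ⥤ Over Y := Over.pullback f ⋙ Over.map f

/-- The counit of base change. -/
def cnt (U : Over Y) : (E f).obj U ⟶ U := (Over.mapPullbackAdj f).counit.app U

section Degen

/-- The extra degeneracy of the pulled back fibre powers. -/
def tau (n : ℕ) : (E f).obj (pow f n) ⟶ (E f).obj (pow f (n + 1)) :=
  (Over.map f).map (Over.homMk
    (pullback.lift
      (WidePullback.lift (pullback.snd (pow f n).hom f ≫ f)
        (Fin.cases (pullback.snd (pow f n).hom f) fun j => pullback.fst (pow f n).hom f ≫ WidePullback.π _ j)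
        (fun j => by
          refine Fin.cases ?_ (fun j => ?_) j
          · rw [Fin.cases_zero]
          · rw [Fin.cases_succ, Category.assoc, π_base]
            exact pullback.condition))
      (pullback.snd (pow f n).hom f) (WidePullback.lift_base _ _ _ _))
    (pullback.lift_snd _ _ _))

/-- The map from the base. -/
def tauBase : (E f).obj topY ⟶ (E f).obj (pow f 0) :=
  (Over.map f).map (Over.homMk
    (pullback.lift
      (WidePullback.lift (pullback.snd (topY (Y := Y)).hom f ≫ f)
        (fun _ => pullback.snd (topY (Y := Y)).hom f) (fun _ => rfl))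
      (pullback.snd (topY (Y := Y)).hom f) (WidePullback.lift_base _ _ _ _))
    (pullback.lift_snd _ _ _))

theorem E_map_fst {U V : Over Y} (g : U ⟶ V) :
    ((E f).map g).left ≫ pullback.fst V.hom f = pullback.fst U.hom f ≫ g.left :=
  pullback.lift_fst _ _ _

theorem E_map_snd {U V : Over Y} (g : U ⟶ V) :
    ((E f).map g).left ≫ pullback.snd V.hom f = pullback.snd U.hom f :=
  pullback.lift_snd _ _ _

theorem tau_snd (n : ℕ) : (tau f n).left ≫ pullback.snd (pow f (n + 1)).hom f = pullback.snd (pow f n).hom f :=
  pullback.lift_snd _ _ _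

theorem tau_π_zero (n : ℕ) :
    (tau f n).left ≫ pullback.fst (pow f (n + 1)).hom f ≫ WidePullback.π (fun _ : Fin (n + 2) => f) 0 =
      pullback.snd (pow f n).hom f := by
  rw [← Category.assoc]
  show (pullback.lift _ _ _ ≫ _) ≫ _ = _
  rw [pullback.lift_fst, WidePullback.lift_π, Fin.cases_zero]

theorem tau_π_succ (n : ℕ) (j : Fin (n + 1)) :
    (tau f n).left ≫ pullback.fst (pow f (n + 1)).hom f ≫ WidePullback.π (fun _ : Fin (n + 2) => f) j.succ =
      pullback.fst (pow f n).hom f ≫ WidePullback.π _ j := by
  rw [← Category.assoc]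
  show (pullback.lift _ _ _ ≫ _) ≫ _ = _
  rw [pullback.lift_fst, WidePullback.lift_π, Fin.cases_succ]

theorem tauBase_π (j : Fin (0 + 1)) :
    (tauBase f).left ≫ pullback.fst (pow f 0).hom f ≫ WidePullback.π (fun _ : Fin (0 + 1) => f) j =
      pullback.snd (topY (Y := Y)).hom f := by
  rw [← Category.assoc]
  show (pullback.lift _ _ _ ≫ _) ≫ _ = _
  rw [pullback.lift_fst, WidePullback.lift_π]

theorem E_hom_ext {n : ℕ} {U : Over Y} (a b : U ⟶ (E f).obj (pow f n))
    (h2 : a.left ≫ pullback.snd (pow f n).hom f = b.left ≫ pullback.snd (pow f n).hom f)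
    (hπ : ∀ j, a.left ≫ pullback.fst (pow f n).hom f ≫ WidePullback.π (fun _ : Fin (n + 1) => f) j =
      b.left ≫ pullback.fst (pow f n).hom f ≫ WidePullback.π _ j) : a = b := by
  refine Over.OverMorphism.ext (pullback.hom_ext (WidePullback.hom_ext _ _ _ (fun j => ?_) ?_) h2)
  · rw [Category.assoc, Category.assoc, hπ]
  · show (a.left ≫ pullback.fst (pow f n).hom f) ≫ (pow f n).hom = (b.left ≫ pullback.fst (pow f n).hom f) ≫ (pow f n).hom
    rw [Category.assoc, Category.assoc, pullback.condition, ← Category.assoc, h2, Category.assoc]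

theorem tau_face_zero (n : ℕ) :
    tau f n ≫ (E f).map (reindex f ((0 : Fin (n + 2)).succAbove)) = 𝟙 _ := by
  refine E_hom_ext f _ _ ?_ fun j => ?_
  · rw [Over.comp_left, Category.assoc, E_map_snd, tau_snd, Over.id_left]
    exact (Category.id_comp _).symm
  · rw [Over.comp_left, Category.assoc, ← Category.assoc ((E f).map _).left, E_map_fst, Category.assoc,
      reindex_π, Fin.succAbove_zero, tau_π_succ, Over.id_left]
    exact (Category.id_comp _).symm

theorem tau_face_succ (n : ℕ) (i : Fin (n + 2)) :
    tau f (n + 1) ≫ (E f).map (reindex f i.succ.succAbove) = (E f).map (reindex f i.succAbove) ≫ tau f n := by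
  refine E_hom_ext f _ _ ?_ fun j => ?_
  · rw [Over.comp_left, Category.assoc, E_map_snd, tau_snd, Over.comp_left, Category.assoc, tau_snd, E_map_snd]
  · rw [Over.comp_left, Category.assoc, ← Category.assoc ((E f).map _).left, E_map_fst, Category.assoc,
      reindex_π, Over.comp_left, Category.assoc]
    refine Fin.cases ?_ (fun j => ?_) j
    · rw [Fin.succ_succAbove_zero, tau_π_zero, tau_π_zero, E_map_snd]
    · rw [Fin.succ_succAbove_succ, tau_π_succ, tau_π_succ, ← Category.assoc ((E f).map _).left, E_map_fst,
        Category.assoc, reindex_π]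

theorem tau_face_one :
    tau f 0 ≫ (E f).map (reindex f ((1 : Fin 2).succAbove)) = (E f).map (toBase f) ≫ tauBase f := by
  refine E_hom_ext f _ _ ?_ fun j => ?_
  · rw [Over.comp_left, Category.assoc, E_map_snd, tau_snd, Over.comp_left, Category.assoc]
    show _ = _ ≫ pullback.lift _ _ _ ≫ _
    rw [pullback.lift_snd]
    exact (E_map_snd f (toBase f)).symm
  · rw [Over.comp_left, Category.assoc, ← Category.assoc ((E f).map _).left, E_map_fst, Category.assoc,
      reindex_π, Over.comp_left, Category.assoc, tauBase_π]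
    fin_cases j
    show (tau f 0).left ≫ pullback.fst (pow f 1).hom f ≫ WidePullback.π _ ((1 : Fin 2).succAbove 0) = _
    rw [show (1 : Fin 2).succAbove 0 = 0 from rfl, tau_π_zero]
    exact (E_map_snd f (toBase f)).symm

theorem tauBase_toBase : tauBase f ≫ (E f).map (toBase f) = 𝟙 _ := by
  refine Over.OverMorphism.ext (pullback.hom_ext ?_ ?_)
  · rw [Over.comp_left, Category.assoc, E_map_fst]
    show pullback.lift _ _ _ ≫ pullback.fst _ _ ≫ WidePullback.base _ = _
    rw [← Category.assoc, pullback.lift_fst, WidePullback.lift_base, ← pullback.condition]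
    show pullback.fst (𝟙 Y) f ≫ 𝟙 Y = 𝟙 _ ≫ pullback.fst (𝟙 Y) f
    rw [Category.comp_id, Category.id_comp]
  · rw [Over.comp_left, Category.assoc, E_map_snd]
    show pullback.lift _ _ _ ≫ _ = _
    rw [pullback.lift_snd]
    exact (Category.id_comp _).symm

end Degen

/-- The Čech functor in a degree. -/
abbrev ch (p : ℕ) (G : EtFppf.AbF Y) : AddCommGrpCat.{u + 1} := (cechComplex f G.obj).X p

theorem face_map (G : EtFppf.AbF Y) {U V : Over Y} (g : U ⟶ V) (x : G.obj.obj (op ((E f).obj V))) :
    pmap G.obj ((E f).map g) x = pmap ((E f).op ⋙ G.obj) g x := rfl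

variable (G : EtFppf.AbF Y)

/-- The Čech complex of the pulled back functor. -/
abbrev Q : (Over Y)ᵒᵖ ⥤ AddCommGrpCat.{u + 1} := (E f).op ⋙ G.obj

theorem homotopy_succ (n : ℕ) (x : G.obj.obj (op ((E f).obj (pow f (n + 1))))) :
    pmap G.obj (tau f (n + 1)) ((cechComplex f (Q f G)).d (n + 1) (n + 2) x) =
      x - (id ((cechComplex f (Q f G)).d n (n + 1) (pmap G.obj (tau f n) x)) :
        G.obj.obj (op ((E f).obj (pow f (n + 1))))) := by
  dsimp only [id]
  rw [cech_d, cech_d, map_sum, Fin.sum_univ_succ, sub_eq_add_neg, ← Finset.sum_neg_distrib]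
  congr 1
  · rw [Fin.val_zero, pow_zero, one_smul, ← face_map, pmap_comp, tau_face_zero]
    show (G.obj.map (𝟙 _)).hom x = x
    rw [G.obj.map_id]
    rfl
  · refine Finset.sum_congr rfl fun i _ => ?_
    rw [map_zsmul, ← face_map, pmap_comp, tau_face_succ, ← face_map, pmap_comp, Fin.val_succ, pow_succ, mul_neg,
      mul_one, neg_smul]

theorem homotopy_zero (x : G.obj.obj (op ((E f).obj (pow f 0)))) :
    pmap G.obj (tau f 0) ((cechComplex f (Q f G)).d 0 1 x) =
      x - pmap (Q f G) (toBase f) (pmap G.obj (tauBase f) x) := by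
  rw [cech_d, map_sum, Fin.sum_univ_two, map_zsmul, map_zsmul, ← face_map, ← face_map, pmap_comp, pmap_comp,
    ← face_map, pmap_comp, tau_face_one, tau_face_zero, Fin.val_zero, Fin.val_one, pow_zero, pow_one, one_smul,
    neg_one_smul, sub_eq_add_neg]
  congr 1
  show (G.obj.map (𝟙 _)).hom x = x
  rw [G.obj.map_id]
  rfl

/-- The unit of the adjunction with the direct image from the covering scheme. -/
def unitQ : G.obj ⟶ Q f G where
  app U := G.obj.map (cnt f U.unop).op
  naturality U V g := by
    show G.obj.map g ≫ G.obj.map (cnt f V.unop).op = G.obj.map (cnt f U.unop).op ≫ G.obj.map ((E f).map g.unop).op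
    rw [← G.obj.map_comp, ← G.obj.map_comp]
    congr 1
    apply Quiver.Hom.unop_inj
    exact ((Over.mapPullbackAdj f).counit.naturality g.unop).symm

/-- Naturality of the Čech differential. -/
theorem cech_d_natural {P P' : (Over Y)ᵒᵖ ⥤ AddCommGrpCat.{w}} (a : P ⟶ P') (n : ℕ) (x : P.obj (op (pow f n))) :
    a.app (op (pow f (n + 1))) ((cechComplex f P).d n (n + 1) x) =
      (cechComplex f P').d n (n + 1) (a.app (op (pow f n)) x) := by
  rw [cech_d, cech_d, map_sum]
  refine Finset.sum_congr rfl fun i _ => ?_
  rw [map_zsmul]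
  congr 1
  exact NatTrans.naturality_apply a (reindex f i.succAbove).op x

section Cover

variable [Flat f] [LocallyOfFinitePresentation f] [Surjective f]

theorem cnt_mem (U : Over Y) :
    Sieve.generate (Presieve.singleton (cnt f U)) ∈ QuotSh.J Scheme.fppfPrecoverage Y U := by
  show Sieve.overEquiv U _ ∈ Scheme.fppfPrecoverage.toGrothendieck U.left
  refine GrothendieckTopology.superset_covering _ ?_
    (Precoverage.generate_mem_toGrothendieck (R := Presieve.singleton (cnt f U).left) ?_)
  · rintro Z g ⟨W, a, b, hb, rfl⟩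
    cases hb
    refine (Sieve.overEquiv_iff _ _).2 ⟨_, Over.homMk (U := Over.mk ((a ≫ (cnt f U).left) ≫ U.hom))
      (V := (E f).obj U) a ?_, cnt f U, Presieve.singleton.mk, Over.OverMorphism.ext rfl⟩
    show a ≫ ((E f).obj U).hom = (a ≫ (cnt f U).left) ≫ U.hom
    rw [Category.assoc, Over.w]
  · haveI : Flat (cnt f U).left := by
      show Flat (((Over.mapPullbackAdj f).counit.app U).left)
      simp only [Over.mapPullbackAdj_counit_app, Over.homMk_left]
      infer_instance
    haveI : LocallyOfFinitePresentation (cnt f U).left := by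
      show LocallyOfFinitePresentation (((Over.mapPullbackAdj f).counit.app U).left)
      simp only [Over.mapPullbackAdj_counit_app, Over.homMk_left]
      infer_instance
    haveI : Surjective (cnt f U).left := by
      show Surjective (((Over.mapPullbackAdj f).counit.app U).left)
      simp only [Over.mapPullbackAdj_counit_app, Over.homMk_left]
      infer_instance
    exact (Scheme.singleton_mem_precoverage_iff _ _).2 ⟨fun y => Surjective.surj y, ⟨inferInstance, inferInstance⟩⟩

theorem unitQ_injective (U : Over Y) : Function.Injective ((unitQ f G).app (op U)) := by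
  intro x y h
  refine (((isSheaf_iff_isSheaf_of_type _ _).1
    ((Presheaf.isSheaf_iff_isSheaf_forget _ _ (forget AddCommGrpCat.{u + 1})).1 G.property)) _
      (cnt_mem f U)).isSeparatedFor.ext fun Z g hg => ?_
  obtain ⟨W, a, b, hb, rfl⟩ := hg
  cases hb
  show G.obj.map (a ≫ cnt f U).op x = G.obj.map (a ≫ cnt f U).op y
  rw [op_comp, G.obj.map_comp, ConcreteCategory.comp_apply, ConcreteCategory.comp_apply]
  exact congrArg _ h

/-- The unit as a morphism of sheaves. -/
def unitJ : G ⟶ (BigSite.pushBig Scheme.fppfPrecoverage f AddCommGrpCat.{u + 1}).obj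
    ((BigSite.pullBig Scheme.fppfPrecoverage f AddCommGrpCat.{u + 1}).obj G) :=
  ⟨unitQ f G⟩

/-- An injective sheaf is a retract of the pulled back functor. -/
theorem exists_retraction [Injective G] : ∃ r : Q f G ⟶ G.obj, unitQ f G ≫ r = 𝟙 _ := by
  haveI : Mono (unitJ f G) := by
    haveI : ∀ U, Mono ((unitQ f G).app U) := fun U =>
      (AddCommGrpCat.mono_iff_injective _).2 (unitQ_injective f G U.unop)
    haveI : Mono ((sheafToPresheaf _ _).map (unitJ f G)) := NatTrans.mono_of_mono_app (unitQ f G)
    exact (sheafToPresheaf _ _).mono_of_mono_map this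
  exact ⟨(Injective.factorThru (𝟙 G) (unitJ f G)).hom,
    congrArg (fun t => t.hom) (Injective.comp_factorThru (𝟙 G) (unitJ f G))⟩

theorem exact_succ [Injective G] (p : ℕ) (x : ch f (p + 1) G)
    (hx : (cechComplex f G.obj).d (p + 1) (p + 2) x = 0) :
    ∃ y, (cechComplex f G.obj).d p (p + 1) y = x := by
  obtain ⟨r, hr⟩ := exists_retraction f G
  let y₀ := (unitQ f G).app (op (pow f (p + 1))) x
  have h := homotopy_succ f G p y₀
  rw [← cech_d_natural f (unitQ f G) (p + 1) x, hx, map_zero, map_zero] at h
  refine ⟨r.app (op (pow f p)) (pmap G.obj (tau f p) y₀), ?_⟩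
  rw [← cech_d_natural f r p]
  refine (congrArg (r.app (op (pow f (p + 1)))) (sub_eq_zero.1 h.symm).symm).trans ?_
  exact ConcreteCategory.congr_hom (congrArg (fun t => t.app (op (pow f (p + 1)))) hr) x

theorem exact_zero [Injective G] (x : ch f 0 G) (hx : (cechComplex f G.obj).d 0 1 x = 0) :
    ∃ l, pmap G.obj (toBase f) l = x := by
  obtain ⟨r, hr⟩ := exists_retraction f G
  let y₀ := (unitQ f G).app (op (pow f 0)) x
  have h := homotopy_zero f G y₀
  rw [← cech_d_natural f (unitQ f G) 0 x, hx, map_zero, map_zero] at h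
  refine ⟨r.app (op topY) (pmap G.obj (tauBase f) y₀), ?_⟩
  refine (NatTrans.naturality_apply r (toBase f).op _).symm.trans ?_
  refine (congrArg (r.app (op (pow f 0))) (sub_eq_zero.1 h.symm).symm).trans ?_
  exact ConcreteCategory.congr_hom (congrArg (fun t => t.app (op (pow f 0))) hr) x

theorem toBase_injective [Injective G] : Function.Injective (pmap G.obj (toBase f)) := by
  intro x y h
  apply unitQ_injective f G topY
  have e : ∀ z, pmap G.obj (tauBase f) (pmap (Q f G) (toBase f) z) = z := fun z => by
    rw [← face_map, pmap_comp, tauBase_toBase]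
    show (G.obj.map (𝟙 _)).hom z = z
    rw [G.obj.map_id]
    rfl
  rw [← e ((unitQ f G).app (op topY) x), ← e ((unitQ f G).app (op topY) y)]
  congr 1
  refine (NatTrans.naturality_apply (unitQ f G) (toBase f).op x).symm.trans ?_
  refine Eq.trans ?_ (NatTrans.naturality_apply (unitQ f G) (toBase f).op y)
  exact congrArg _ h

end Cover

end Groth.Agent.EtFppfDescLib
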